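import Cfsg.Agent.Lib.SporRecognition.CosetCert.Chain
import Cfsg.Prelude.Def_Spor_He

/-! Generated coset-enumeration certificate: He over <>, 120 cosets. -/

set_option autoImplicit false
set_option maxRecDepth 20000
set_option linter.all false
set_option Elab.async false

namespace CfsgLib.SporRecognition.Cert.He120

open CfsgLib.SporRecognition.CosetCert

def T1Lit : Nat := 0xddb3568cf931e2c3df2f6d3d75f4e7836f2e3c37e6ab4e951a13e6cb9526fccbd76e5bb522cd4b15eb4e7af1dba72e1b3568ce3c68b121c2650603f7cdd4274c95223448503160bd72d58ad529305cb15284c91f3c74e1b346460b1424411203c70d080c1070c14001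
noncomputable def T1 (u : Nat) : Nat := Nat.land (Nat.shiftRight T1Lit (Nat.mul 7 u)) 127
def T2Lit : Nat := 0xc17b172b5d2c6aad9acd3b9c28e49fba6e897d64f78fda2eb87cf6f17fbdec1d8ef4b9cefb2b6c6d30b3bec6eafb6baa2baf3aaa8a49a825533114a908231e8908e1b8069bbc2ee9c1528d49b222c082d58a868c4e2d2234220f9d0c1cc982c0c2121c3c0891400282
noncomputable def T2 (u : Nat) : Nat := Nat.land (Nat.shiftRight T2Lit (Nat.mul 7 u)) 127
def T3Lit : Nat := 0xbfbf8dbcb67ad7ed573e1a58eed0db3b9cdd52b648ef1f4c4e90b940e0fb73c7badd68719b2466b899e0bd3185c5d69658555a9d44f452cf488e5a192b4fc53b0d94134fcc987659cb76c4da12624178f1cad4a81698509448039e386c2842e54a02220468c0020303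
noncomputable def T3 (u : Nat) : Nat := Nat.land (Nat.shiftRight T3Lit (Nat.mul 7 u)) 127
def T4Lit : Nat := 0xe776e71ef63a69af9ea52c547863dd3e64bd1ae55a8d17b7589820f2defde6d77b353accddb65c985a32637ef5b5eb6cacaca5455a7413249d351c9412239f86721403665f3d30e4ab86a5093360447ae563552718292a21084f063a14d17065811302407001624384
noncomputable def T4 (u : Nat) : Nat := Nat.land (Nat.shiftRight T4Lit (Nat.mul 7 u)) 127

noncomputable def tabs : Cfsg.Spor.He.Gen → Bool → Nat → Nat :=
  fun a b => match a with
  | .a => bif b then T1 else T1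
  | .b => bif b then (fun u => u) else (fun u => u)
  | .c => bif b then T2 else T2
  | .d => bif b then T3 else T3
  | .e => bif b then T4 else T4
  | .f => bif b then (fun u => u) else (fun u => u)
  | .g => bif b then (fun u => u) else (fun u => u)

def lets : List (Cfsg.Spor.He.Gen × Bool) := [(.a, true), (.c, true), (.d, true), (.e, true)]
def invols : List Cfsg.Spor.He.Gen := [.a, .b, .c, .d, .e, .f, .g]
def pairs : List (Cfsg.Spor.He.Gen × Cfsg.Spor.He.Gen) := [(.a, .a), (.a, .b), (.a, .c), (.a, .d), (.a, .e), (.a, .f), (.a, .g), (.b, .b), (.b, .c), (.b, .d), (.b, .e), (.b, .f), (.b, .g), (.c, .c), (.c, .d), (.c, .e), (.c, .f), (.c, .g), (.d, .d), (.d, .e), (.d, .f), (.d, .g), (.e, .e), (.e, .f), (.e, .g), (.f, .f), (.f, .g), (.g, .g)]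
def extraW : List (List (Cfsg.Spor.He.Gen × Bool)) := [
  [(.e, true), (.g, false), (.f, false), (.g, false), (.f, false)],
  [(.e, true), (.c, false), (.b, false), (.a, false), (.c, false), (.b, false), (.a, false), (.c, false), (.b, false), (.a, false)],
  [(.a, true), (.d, false), (.c, false), (.d, false), (.c, false), (.d, false), (.c, false), (.d, false), (.c, false), (.d, false), (.c, false)],
  [(.c, true), (.d, true), (.f, true), (.g, true), (.c, true), (.d, true), (.f, true), (.g, true), (.c, true), (.d, true), (.f, true), (.g, true), (.c, true), (.d, true), (.f, true), (.g, true)]]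
def relW : List (List (Cfsg.Spor.He.Gen × Bool)) := [
  [(.a, true), (.a, true)],
  [(.a, true), (.b, true), (.a, true), (.b, true), (.a, true), (.b, true), (.a, true), (.b, true)],
  [(.a, true), (.c, true), (.a, true), (.c, true)],
  [(.a, true), (.d, true), (.a, true), (.d, true)],
  [(.a, true), (.e, true), (.a, true), (.e, true)],
  [(.a, true), (.f, true), (.a, true), (.f, true)],
  [(.a, true), (.g, true), (.a, true), (.g, true)],
  [(.b, true), (.b, true)],
  [(.b, true), (.c, true), (.b, true), (.c, true), (.b, true), (.c, true)],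
  [(.b, true), (.d, true), (.b, true), (.d, true)],
  [(.b, true), (.e, true), (.b, true), (.e, true)],
  [(.b, true), (.f, true), (.b, true), (.f, true)],
  [(.b, true), (.g, true), (.b, true), (.g, true)],
  [(.c, true), (.c, true)],
  [(.c, true), (.d, true), (.c, true), (.d, true), (.c, true), (.d, true), (.c, true), (.d, true), (.c, true), (.d, true), (.c, true), (.d, true), (.c, true), (.d, true), (.c, true), (.d, true), (.c, true), (.d, true), (.c, true), (.d, true)],
  [(.c, true), (.e, true), (.c, true), (.e, true)],
  [(.c, true), (.f, true), (.c, true), (.f, true)],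
  [(.c, true), (.g, true), (.c, true), (.g, true)],
  [(.d, true), (.d, true)],
  [(.d, true), (.e, true), (.d, true), (.e, true), (.d, true), (.e, true)],
  [(.d, true), (.f, true), (.d, true), (.f, true), (.d, true), (.f, true)],
  [(.d, true), (.g, true), (.d, true), (.g, true), (.d, true), (.g, true)],
  [(.e, true), (.e, true)],
  [(.e, true), (.f, true), (.e, true), (.f, true)],
  [(.e, true), (.g, true), (.e, true), (.g, true)],
  [(.f, true), (.f, true)],
  [(.f, true), (.g, true), (.f, true), (.g, true), (.f, true), (.g, true), (.f, true), (.g, true)],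
  [(.g, true), (.g, true)],
  [(.e, true), (.g, false), (.f, false), (.g, false), (.f, false)],
  [(.e, true), (.c, false), (.b, false), (.a, false), (.c, false), (.b, false), (.a, false), (.c, false), (.b, false), (.a, false)],
  [(.a, true), (.d, false), (.c, false), (.d, false), (.c, false), (.d, false), (.c, false), (.d, false), (.c, false), (.d, false), (.c, false)],
  [(.c, true), (.d, true), (.f, true), (.g, true), (.c, true), (.d, true), (.f, true), (.g, true), (.c, true), (.d, true), (.f, true), (.g, true), (.c, true), (.d, true), (.f, true), (.g, true)]]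
def subW : List (List (Cfsg.Spor.He.Gen × Bool)) := [
  ]

end CfsgLib.SporRecognition.Cert.He120
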